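import Mathlib.LinearAlgebra.Charpoly.ToMatrix
import Mathlib.RingTheory.AdjoinRoot
import Mathlib.RingTheory.Norm.Transitivity
import Mathlib.FieldTheory.Finite.GaloisField
import Mathlib.LinearAlgebra.FiniteDimensional.Lemmas
import Mathlib.RingTheory.Polynomial.Basic
import Mathlib.Algebra.Ring.GeomSum
import Mathlib.Algebra.Squarefree.Basic
import Mathlib.FieldTheory.Minpoly.Field
import Mathlib.LinearAlgebra.Matrix.Charpoly.Coeff

/-!
# Endomorphisms annihilated by a squarefree polynomial

Two such endomorphisms with the same characteristic polynomial are similar; over a finite field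
the centraliser of one contains automorphisms of every determinant.
-/

set_option autoImplicit false
set_option linter.unusedSectionVars false
set_option linter.style.haveILetI false

namespace CfsgLib.CharpolySS

open Polynomial Module

universe u v

/-- If `f(M) = 0` then the characteristic polynomial divides a power of `f`. -/
theorem charpoly_dvd_pow {R : Type*} [CommRing R] {n : Type*} [Fintype n] [DecidableEq n]
    (M : Matrix n n R) (f : R[X]) (hf : aeval M f = 0) : M.charpoly ∣ f ^ Fintype.card n := by
  let x : Matrix n n R[X] := Matrix.scalar n X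
  let y : Matrix n n R[X] := M.map C
  have hcomm : Commute x y := Matrix.scalar_commute X (fun r => Commute.all _ _) y
  have key : x - y ∣ f.sum fun i a => (C a) • x ^ i - (C a) • y ^ i := by
    refine Finset.dvd_sum fun i _ => ?_
    obtain ⟨Q, hQ⟩ := hcomm.sub_dvd_pow_sub_pow i
    refine ⟨(C (f.coeff i)) • Q, ?_⟩
    show C (f.coeff i) • x ^ i - C (f.coeff i) • y ^ i = _
    rw [← smul_sub, hQ, mul_smul_comm]
  have hx : ∀ i, x ^ i = Matrix.scalar n (X ^ i) := fun i => (map_pow _ _ _).symm
  have hy : ∀ i, y ^ i = (M ^ i).map C := fun i => (Matrix.map_pow M C i).symm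
  have e : (f.sum fun i a => (C a) • x ^ i - (C a) • y ^ i) = Matrix.scalar n f := by
    rw [Polynomial.sum, Finset.sum_sub_distrib]
    have h1 : ∑ i ∈ f.support, C (f.coeff i) • x ^ i = Matrix.scalar n f := by
      conv_rhs => rw [f.as_sum_support_C_mul_X_pow, map_sum]
      refine Finset.sum_congr rfl fun i _ => ?_
      rw [hx]
      ext a b : 1
      by_cases h : a = b <;> simp [Matrix.scalar_apply, Matrix.diagonal, h]
    have h2 : ∑ i ∈ f.support, C (f.coeff i) • y ^ i = 0 := by
      have h0 : ∑ i ∈ f.support, f.coeff i • M ^ i = 0 := by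
        rw [aeval_eq_sum_range' (Nat.lt_succ_self _)] at hf
        rw [← hf]
        refine Finset.sum_subset (fun i hi => Finset.mem_range.2 ?_) fun i _ hi => ?_
        · exact Nat.lt_succ_of_le (le_natDegree_of_mem_supp i hi)
        · rw [Polynomial.notMem_support_iff.1 hi, zero_smul]
      have := congrArg (fun A : Matrix n n R => A.map C) h0
      simp only [Matrix.map_zero C (map_zero C)] at this
      rw [← this]
      ext a b : 1
      simp [hy, Matrix.sum_apply, Matrix.map_apply]
    rw [h1, h2, sub_zero]
  obtain ⟨Q, hQ⟩ := key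
  rw [e] at hQ
  refine ⟨Q.det, ?_⟩
  have := congrArg Matrix.det hQ
  rw [Matrix.det_mul, Matrix.scalar_apply, Matrix.det_diagonal, Finset.prod_const,
    Finset.card_univ] at this
  exact this

variable {F : Type u} [Field F]

theorem charpoly_dvd_pow_of_aeval_eq_zero {V : Type v} [AddCommGroup V] [Module F V]
    [FiniteDimensional F V] (g : Module.End F V) (f : F[X]) (hf : aeval g f = 0) :
    g.charpoly ∣ f ^ finrank F V := by
  let b := Module.finBasis F V
  have h : aeval (LinearMap.toMatrixAlgEquiv b g) f = 0 := by
    rw [aeval_algHom_apply, hf, map_zero]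
  have := charpoly_dvd_pow _ f h
  rw [Fintype.card_fin] at this
  rwa [show (LinearMap.toMatrixAlgEquiv b g).charpoly = g.charpoly from
    LinearMap.charpoly_toMatrix g b] at this

theorem aeval_restrict_coe {V : Type v} [AddCommGroup V] [Module F V] (g : Module.End F V)
    (W : Submodule F V) (hW : ∀ x ∈ W, g x ∈ W) (f : F[X]) (x : W) :
    ((aeval (g.restrict hW) f x : W) : V) = aeval g f (x : V) := by
  induction f using Polynomial.induction_on' with
  | add p q hp hq => simp [hp, hq]
  | monomial i a =>
    simp only [aeval_monomial, Module.algebraMap_end_eq_smul_id, Module.End.mul_apply,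
      LinearMap.smul_apply, LinearMap.id_apply, Submodule.coe_smul]
    congr 1
    induction i generalizing x with
    | zero => simp
    | succ i ih => simp [pow_succ', Module.End.mul_apply, ih]

theorem mapsTo_ker_aeval {V : Type v} [AddCommGroup V] [Module F V] (g : Module.End F V)
    (a : F[X]) : ∀ x ∈ LinearMap.ker (aeval g a), g x ∈ LinearMap.ker (aeval g a) := by
  intro x hx
  rw [LinearMap.mem_ker] at hx ⊢
  rw [← Module.End.mul_apply, show aeval g a * g = g * aeval g a by
    simpa [Commute, SemiconjBy] using ((Commute.all a X).map (aeval g)).eq,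
    Module.End.mul_apply, hx, map_zero]

/-- The restriction of `g` to the kernel of `a(g)`. -/
noncomputable def onKer {V : Type v} [AddCommGroup V] [Module F V] (g : Module.End F V) (a : F[X]) :
    Module.End F (LinearMap.ker (aeval g a)) :=
  g.restrict (mapsTo_ker_aeval g a)

theorem aeval_onKer {V : Type v} [AddCommGroup V] [Module F V] (g : Module.End F V) (a : F[X]) :
    aeval (onKer g a) a = 0 := by
  refine LinearMap.ext fun x => Subtype.ext ?_
  rw [onKer, aeval_restrict_coe]
  exact x.2

/-- The splitting along two coprime factors. -/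
theorem split {V : Type v} [AddCommGroup V] [Module F V] [FiniteDimensional F V]
    (g : Module.End F V) {a b : F[X]} (hab : IsCoprime a b) (h : aeval g (a * b) = 0) :
    ∃ e : (LinearMap.ker (aeval g a) × LinearMap.ker (aeval g b)) ≃ₗ[F] V,
      (∀ p, e ((onKer g a).prodMap (onKer g b) p) = g (e p)) ∧
        g.charpoly = (onKer g a).charpoly * (onKer g b).charpoly := by
  have hc : IsCompl (LinearMap.ker (aeval g a)) (LinearMap.ker (aeval g b)) := by
    refine ⟨disjoint_ker_aeval_of_isCoprime g hab, ?_⟩
    rw [codisjoint_iff, sup_ker_aeval_eq_ker_aeval_mul_of_coprime g hab, h, LinearMap.ker_zero]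
  let e := Submodule.prodEquivOfIsCompl _ _ hc
  have he : ∀ p, e ((onKer g a).prodMap (onKer g b) p) = g (e p) := by
    rintro ⟨x, y⟩
    simp [e, onKer, Submodule.coe_prodEquivOfIsCompl', map_add]
  refine ⟨e, he, ?_⟩
  rw [← LinearMap.charpoly_prodMap, ← LinearEquiv.charpoly_conj e]
  congr 1
  refine LinearMap.ext fun v => ?_
  rw [LinearEquiv.conj_apply_apply, he, LinearEquiv.apply_symm_apply]

section Irreducible

variable (π : F[X]) [Fact (Irreducible π)] {V : Type v} [AddCommGroup V] [Module F V]
  (g : Module.End F V) (h : aeval g π = 0)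

/-- The action of `F[X]/(π)` given by `g`. -/
noncomputable def rootHom : AdjoinRoot π →ₐ[F] Module.End F V :=
  Ideal.Quotient.liftₐ (Ideal.span {π}) (aeval g) (fun a ha => by
    obtain ⟨b, rfl⟩ := Ideal.mem_span_singleton.1 ha
    rw [map_mul, h, zero_mul])

theorem rootHom_root : rootHom π g h (AdjoinRoot.root π) = g :=
  aeval_X g

/-- `V` as a vector space over `F[X]/(π)`. -/
@[reducible]
noncomputable def rootModule : Module (AdjoinRoot π) V :=
  Module.compHom V (rootHom π g h).toRingHom

theorem rootTower : @IsScalarTower F (AdjoinRoot π) V _ (rootModule π g h).toSMul _ := by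
  letI := rootModule π g h
  refine ⟨fun c x v => ?_⟩
  show rootHom π g h (c • x) v = c • rootHom π g h x v
  rw [map_smul, LinearMap.smul_apply]

end Irreducible

theorem exists_conj_irreducible {π : F[X]} (hπ : Irreducible π) {V W : Type v} [AddCommGroup V]
    [Module F V] [FiniteDimensional F V] [AddCommGroup W] [Module F W] [FiniteDimensional F W]
    (g : Module.End F V) (h : Module.End F W) (hg : aeval g π = 0) (hh : aeval h π = 0)
    (hd : finrank F V = finrank F W) : ∃ e : V ≃ₗ[F] W, ∀ v, e (g v) = h (e v) := by
  haveI : Fact (Irreducible π) := ⟨hπ⟩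
  letI := rootModule π g hg
  letI := rootModule π h hh
  haveI := rootTower π g hg
  haveI := rootTower π h hh
  haveI : FiniteDimensional (AdjoinRoot π) V := Module.Finite.of_restrictScalars_finite F _ V
  haveI : FiniteDimensional (AdjoinRoot π) W := Module.Finite.of_restrictScalars_finite F _ W
  haveI : FiniteDimensional F (AdjoinRoot π) := (AdjoinRoot.powerBasis hπ.ne_zero).finite
  have hd' : finrank (AdjoinRoot π) V = finrank (AdjoinRoot π) W := by
    rw [← Module.finrank_mul_finrank F (AdjoinRoot π) V,
      ← Module.finrank_mul_finrank F (AdjoinRoot π) W] at hd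
    exact Nat.eq_of_mul_eq_mul_left Module.finrank_pos hd
  obtain ⟨e⟩ := FiniteDimensional.nonempty_linearEquiv_of_finrank_eq hd'
  refine ⟨e.restrictScalars F, fun v => ?_⟩
  have e1 : g v = AdjoinRoot.root π • v := by
    show g v = rootHom π g hg (AdjoinRoot.root π) v
    rw [rootHom_root]
  have e2 : ∀ w : W, h w = AdjoinRoot.root π • w := by
    intro w
    show h w = rootHom π h hh (AdjoinRoot.root π) w
    rw [rootHom_root]
  rw [e1, e2]
  exact e.map_smul _ v

theorem exists_conj_aux : ∀ (d : ℕ) (f : F[X]), f.natDegree ≤ d → Squarefree f →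
    ∀ (V W : Type v) [AddCommGroup V] [Module F V] [FiniteDimensional F V] [AddCommGroup W]
      [Module F W] [FiniteDimensional F W] (g : Module.End F V) (h : Module.End F W),
      aeval g f = 0 → aeval h f = 0 → g.charpoly = h.charpoly →
      ∃ e : V ≃ₗ[F] W, ∀ v, e (g v) = h (e v) := by
  intro d
  induction d using Nat.strong_induction_on with
  | _ d ih =>
    intro f hfd hsq V W _ _ _ _ _ _ g h hg hh hc
    by_cases hu : IsUnit f
    · have z : ∀ {U : Type v} [AddCommGroup U] [Module F U] (k : Module.End F U),
          aeval k f = 0 → Subsingleton U := by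
        intro U _ _ k hk
        have h1 : (1 : Module.End F U) = 0 := by
          have := (hu.map (aeval k))
          rw [hk] at this
          exact (isUnit_zero_iff.1 this).symm
        exact ⟨fun x y => by
          rw [← Module.End.one_apply (R := F) x, ← Module.End.one_apply (R := F) y, h1]
          rfl⟩
      haveI := z g hg
      haveI := z h hh
      exact ⟨LinearEquiv.ofSubsingleton V W, fun v => Subsingleton.elim _ _⟩
    · obtain ⟨π, hπ, c, rfl⟩ := WfDvdMonoid.exists_irreducible_factor hu hsq.ne_zero
      have hcop : IsCoprime π c := (squarefree_mul_iff.1 hsq).1.isCoprime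
      obtain ⟨eg, heg, hcg⟩ := split g hcop hg
      obtain ⟨eh, heh, hch⟩ := split h hcop hh
      set χ1 := (onKer g π).charpoly with hχ1
      set χ2 := (onKer g c).charpoly with hχ2
      set η1 := (onKer h π).charpoly with hη1
      set η2 := (onKer h c).charpoly with hη2
      have hp : χ1 * χ2 = η1 * η2 := by rw [← hcg, hc, hch]
      have dvd : ∀ {U : Type v} [AddCommGroup U] [Module F U] [FiniteDimensional F U]
          (k : Module.End F U) (a : F[X]),
          (onKer k a).charpoly ∣ a ^ finrank F (LinearMap.ker (aeval k a)) :=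
        fun k a => charpoly_dvd_pow_of_aeval_eq_zero _ a (aeval_onKer k a)
      have h12 : IsCoprime χ1 η2 :=
        ((hcop.pow).of_isCoprime_of_dvd_left (dvd g π)).of_isCoprime_of_dvd_right (dvd h c)
      have h21 : IsCoprime η1 χ2 :=
        ((hcop.pow).of_isCoprime_of_dvd_left (dvd h π)).of_isCoprime_of_dvd_right (dvd g c)
      have e1 : χ1 = η1 := eq_of_monic_of_associated (LinearMap.charpoly_monic _)
        (LinearMap.charpoly_monic _) (associated_of_dvd_dvd
          (h12.dvd_of_dvd_mul_right ⟨χ2, hp.symm⟩) (h21.dvd_of_dvd_mul_right ⟨η2, hp⟩))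
      have e2 : χ2 = η2 := mul_left_cancel₀ (LinearMap.charpoly_monic _).ne_zero
        (a := χ1) (by rw [hp, e1])
      obtain ⟨i1, hi1⟩ := exists_conj_irreducible hπ (onKer g π) (onKer h π) (aeval_onKer g π)
        (aeval_onKer h π) (by
          rw [← LinearMap.charpoly_natDegree (onKer g π), ← hχ1, e1, hη1,
            LinearMap.charpoly_natDegree])
      obtain ⟨i2, hi2⟩ := ih c.natDegree (by
          have := natDegree_mul hπ.ne_zero (squarefree_mul_iff.1 hsq).2.2.ne_zero
          have := hπ.natDegree_pos
          omega) c le_rfl (squarefree_mul_iff.1 hsq).2.2 _ _ (onKer g c) (onKer h c)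
        (aeval_onKer g c) (aeval_onKer h c) e2
      refine ⟨eg.symm.trans ((i1.prodCongr i2).trans eh), fun v => ?_⟩
      obtain ⟨⟨x, y⟩, rfl⟩ := eg.surjective v
      rw [← heg]
      simp only [LinearEquiv.trans_apply, LinearEquiv.symm_apply_apply, LinearEquiv.prodCongr_apply,
        LinearMap.prodMap_apply]
      rw [hi1, hi2]
      exact heh (i1 x, i2 y)

/-- Endomorphisms killed by a squarefree polynomial are similar when their characteristic
polynomials agree. -/
theorem exists_conj_of_charpoly_eq {V W : Type v} [AddCommGroup V] [Module F V]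
    [FiniteDimensional F V] [AddCommGroup W] [Module F W] [FiniteDimensional F W]
    (g : Module.End F V) (h : Module.End F W) {f : F[X]} (hsq : Squarefree f)
    (hg : aeval g f = 0) (hh : aeval h f = 0) (hc : g.charpoly = h.charpoly) :
    ∃ e : V ≃ₗ[F] W, ∀ v, e (g v) = h (e v) :=
  exists_conj_aux f.natDegree f le_rfl hsq V W g h hg hh hc

/-- The centraliser of such an endomorphism has automorphisms of every determinant. -/
theorem exists_commuting_det [Finite F] {V : Type v} [AddCommGroup V] [Module F V]
    [FiniteDimensional F V] [Nontrivial V] (g : Module.End F V) {f : F[X]} (hsq : Squarefree f)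
    (hg : aeval g f = 0) (d : Fˣ) :
    ∃ e : Module.End F V, LinearMap.det e = d ∧ ∀ v, e (g v) = g (e v) := by
  classical
  have hpos : 0 < g.charpoly.natDegree := by
    rw [LinearMap.charpoly_natDegree]
    exact Module.finrank_pos
  obtain ⟨π, hπ, hπd⟩ := WfDvdMonoid.exists_irreducible_factor
    (fun hu => by rw [natDegree_eq_zero_of_isUnit hu] at hpos; exact lt_irrefl 0 hpos)
    (LinearMap.charpoly_monic g).ne_zero
  have hπf : π ∣ f := hπ.prime.dvd_of_dvd_pow (hπd.trans (charpoly_dvd_pow_of_aeval_eq_zero g f hg))
  obtain ⟨c, rfl⟩ := hπf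
  have hcop : IsCoprime π c := (squarefree_mul_iff.1 hsq).1.isCoprime
  obtain ⟨eg, heg, hcg⟩ := split g hcop hg
  haveI : Fact (Irreducible π) := ⟨hπ⟩
  have hnt : 0 < finrank F (LinearMap.ker (aeval g π)) := by
    by_contra h0
    have h1 : (onKer g π).charpoly = 1 := by
      rw [← (LinearMap.charpoly_monic _).natDegree_eq_zero, LinearMap.charpoly_natDegree]
      omega
    rw [hcg, h1, one_mul] at hπd
    have := hπd.trans (charpoly_dvd_pow_of_aeval_eq_zero _ c (aeval_onKer g c))
    exact hπ.not_isUnit (hcop.isUnit_of_dvd' dvd_rfl (hπ.prime.dvd_of_dvd_pow this))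
  letI := rootModule π (onKer g π) (aeval_onKer g π)
  haveI := rootTower π (onKer g π) (aeval_onKer g π)
  haveI : FiniteDimensional (AdjoinRoot π) (LinearMap.ker (aeval g π)) :=
    Module.Finite.of_restrictScalars_finite F _ _
  haveI : FiniteDimensional F (AdjoinRoot π) := (AdjoinRoot.powerBasis hπ.ne_zero).finite
  haveI : Finite (AdjoinRoot π) := Module.finite_of_finite F
  obtain ⟨z, hz⟩ := FiniteField.norm_surjective F (AdjoinRoot π) (d : F)
  let b := Module.finBasis (AdjoinRoot π) (LinearMap.ker (aeval g π))
  have hm : 0 < finrank (AdjoinRoot π) (LinearMap.ker (aeval g π)) := by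
    rw [← Module.finrank_mul_finrank F (AdjoinRoot π) (LinearMap.ker (aeval g π))] at hnt
    exact Nat.pos_of_ne_zero fun h0 => by rw [h0, mul_zero] at hnt; exact lt_irrefl 0 hnt
  let T : Module.End (AdjoinRoot π) (LinearMap.ker (aeval g π)) :=
    Matrix.toLin b b (Matrix.diagonal (Function.update 1 ⟨0, hm⟩ z))
  have hT : LinearMap.det T = z := by
    rw [LinearMap.det_toLin, Matrix.det_diagonal, Finset.prod_update_of_mem (Finset.mem_univ _)]
    simp
  let T' : Module.End F (LinearMap.ker (aeval g π)) := T.restrictScalars F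
  refine ⟨eg.conj (T'.prodMap LinearMap.id), ?_, fun v => ?_⟩
  · rw [LinearEquiv.conj_apply, LinearMap.comp_assoc, LinearMap.det_conj, LinearMap.det_prodMap,
      LinearMap.det_id, mul_one]
    simp only [T', LinearMap.det_restrictScalars, hT, hz]
  · obtain ⟨⟨x, y⟩, rfl⟩ := eg.surjective v
    rw [← heg]
    simp only [LinearEquiv.conj_apply_apply, LinearEquiv.symm_apply_apply, LinearMap.prodMap_apply,
      LinearMap.id_apply]
    rw [← heg, LinearMap.prodMap_apply]
    congr 2
    have e1 : ∀ u, onKer g π u = AdjoinRoot.root π • u := by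
      intro u
      show onKer g π u = rootHom π (onKer g π) (aeval_onKer g π) (AdjoinRoot.root π) u
      rw [rootHom_root]
    show T (onKer g π x) = onKer g π (T x)
    rw [e1, e1, map_smul]

/-- An element of order prime to the characteristic is killed by a squarefree polynomial. -/
theorem squarefree_X_pow_sub_one {p m : ℕ} [CharP F p] (hm : ¬ p ∣ m) :
    Squarefree (X ^ m - 1 : F[X]) := by
  have hm' : (m : F) ≠ 0 := fun h => hm ((CharP.cast_eq_zero_iff F p m).1 h)
  simpa using (separable_X_pow_sub_C (F := F) 1 hm' one_ne_zero).squarefree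

end CfsgLib.CharpolySS
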