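import Cfsg.Agent.CharpolySS.Basic
import Mathlib.LinearAlgebra.Matrix.GeneralLinearGroup.Defs
import Mathlib.LinearAlgebra.Matrix.Charpoly.Minpoly
import Mathlib.GroupTheory.OrderOfElement

/-!
# Semisimple matrices over a finite field are determined up to conjugacy by the characteristic
polynomial, and every monic polynomial occurs.
-/

set_option autoImplicit false
set_option linter.style.haveILetI false

namespace CfsgLib.CharpolySS

open Polynomial Module

universe u

variable {F : Type u} [Field F] [Finite F] {p : ℕ} [hp : Fact p.Prime] [CharP F p]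

omit [Finite F] in
/-- Matrices killed by squarefree polynomials with equal characteristic polynomials are similar. -/
theorem exists_units_conj {n : Type*} [Fintype n] [DecidableEq n] (A B : Matrix n n F)
    {f : F[X]} (hsq : Squarefree f) (hA : aeval A f = 0) (hB : aeval B f = 0)
    (hc : A.charpoly = B.charpoly) :
    ∃ P : (Matrix n n F)ˣ, (P : Matrix n n F) * A = B * P := by
  let e := Matrix.toLinAlgEquiv' (R := F) (n := n)
  have hg : aeval (e A) f = 0 := by rw [aeval_algHom_apply, hA, map_zero]
  have hh : aeval (e B) f = 0 := by rw [aeval_algHom_apply, hB, map_zero]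
  obtain ⟨k, hk⟩ := exists_conj_of_charpoly_eq (e A) (e B) hsq hg hh (by
    show (Matrix.toLin' A).charpoly = (Matrix.toLin' B).charpoly
    rw [Matrix.charpoly_toLin', Matrix.charpoly_toLin', hc])
  refine ⟨⟨LinearMap.toMatrix' k.toLinearMap, LinearMap.toMatrix' k.symm.toLinearMap, ?_, ?_⟩, ?_⟩
  · rw [← LinearMap.toMatrix'_comp, LinearEquiv.comp_symm, LinearMap.toMatrix'_id]
  · rw [← LinearMap.toMatrix'_comp, LinearEquiv.symm_comp, LinearMap.toMatrix'_id]
  · show LinearMap.toMatrix' k.toLinearMap * A = B * LinearMap.toMatrix' k.toLinearMap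
    apply Matrix.toLin'.injective
    refine LinearMap.ext fun v => ?_
    simp only [Matrix.toLin'_mul, LinearMap.comp_apply, Matrix.toLin'_toMatrix']
    exact hk v

/-- The centraliser of such a matrix meets every determinant class. -/
theorem exists_commuting_matrix_det {n : Type*} [Fintype n] [DecidableEq n] [Nonempty n]
    (A : Matrix n n F) {f : F[X]} (hsq : Squarefree f) (hA : aeval A f = 0) (d : Fˣ) :
    ∃ E : Matrix n n F, E.det = d ∧ E * A = A * E := by
  let e := Matrix.toLinAlgEquiv' (R := F) (n := n)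
  have hg : aeval (e A) f = 0 := by rw [aeval_algHom_apply, hA, map_zero]
  obtain ⟨k, hk1, hk2⟩ := exists_commuting_det (e A) hsq hg d
  refine ⟨LinearMap.toMatrix' k, by rw [LinearMap.det_toMatrix', hk1], ?_⟩
  apply Matrix.toLin'.injective
  refine LinearMap.ext fun v => ?_
  simp only [Matrix.toLin'_mul, LinearMap.comp_apply, Matrix.toLin'_toMatrix']
  exact hk2 v

omit [Finite F] in
/-- A matrix with `A ^ m = 1`, `p ∤ m`, is killed by a squarefree polynomial. -/
theorem aeval_X_pow_sub_one {R : Type*} [Ring R] [Algebra F R] (A : R) {m : ℕ}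
    (hm : A ^ m = 1) : aeval A (X ^ m - 1 : F[X]) = 0 := by
  simp [hm]

omit [Finite F] in
/-- A squarefree common killer for two elements of order prime to `p`. -/
theorem common_squarefree {G : Type*} [Monoid G] (g h : G) (hg : (orderOf g).Coprime p)
    (hh : (orderOf h).Coprime p) : Squarefree (X ^ (orderOf g * orderOf h) - 1 : F[X]) :=
  squarefree_X_pow_sub_one (p := p) fun hd => by
    rcases hp.out.dvd_mul.1 hd with h' | h'
    · exact hp.out.one_lt.ne' (Nat.Coprime.eq_one_of_dvd hg.symm h')
    · exact hp.out.one_lt.ne' (Nat.Coprime.eq_one_of_dvd hh.symm h')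

omit [Finite F] in
theorem isConj_GL_of_charpoly_eq {n : Type*} [Fintype n] [DecidableEq n] (g h : GL n F)
    (hg : (orderOf g).Coprime p) (hh : (orderOf h).Coprime p)
    (hc : (g : Matrix n n F).charpoly = (h : Matrix n n F).charpoly) : IsConj g h := by
  have e1 : (g : Matrix n n F) ^ (orderOf g * orderOf h) = 1 := by
    rw [← Units.val_pow_eq_pow_val, pow_mul, pow_orderOf_eq_one, one_pow, Units.val_one]
  have e2 : (h : Matrix n n F) ^ (orderOf g * orderOf h) = 1 := by
    rw [← Units.val_pow_eq_pow_val, mul_comm, pow_mul, pow_orderOf_eq_one, one_pow, Units.val_one]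
  obtain ⟨P, hP⟩ := exists_units_conj _ _ (common_squarefree g h hg hh)
    (aeval_X_pow_sub_one _ e1) (aeval_X_pow_sub_one _ e2) hc
  rw [isConj_iff]
  exact ⟨P, mul_inv_eq_iff_eq_mul.2 (Units.ext hP)⟩

theorem isConj_SL_of_charpoly_eq {n : Type*} [Fintype n] [DecidableEq n]
    (g h : Matrix.SpecialLinearGroup n F) (hg : (orderOf g).Coprime p) (hh : (orderOf h).Coprime p)
    (hc : g.1.charpoly = h.1.charpoly) : IsConj g h := by
  rcases isEmpty_or_nonempty n with hn | hn
  · rw [Subsingleton.elim g h]
  · have e1 : g.1 ^ (orderOf g * orderOf h) = 1 := by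
      rw [← Matrix.SpecialLinearGroup.coe_pow, pow_mul, pow_orderOf_eq_one, one_pow]
      rfl
    have e2 : h.1 ^ (orderOf g * orderOf h) = 1 := by
      rw [← Matrix.SpecialLinearGroup.coe_pow, mul_comm, pow_mul, pow_orderOf_eq_one, one_pow]
      rfl
    obtain ⟨P, hP⟩ := exists_units_conj _ _ (common_squarefree g h hg hh)
      (aeval_X_pow_sub_one _ e1) (aeval_X_pow_sub_one _ e2) hc
    have hPd : P.val.det ≠ 0 := by
      intro h0
      have := congrArg Matrix.det P.mul_inv
      rw [Matrix.det_mul, h0, zero_mul, Matrix.det_one] at this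
      exact zero_ne_one this
    obtain ⟨E, hE, hEc⟩ := exists_commuting_matrix_det h.1
      (squarefree_X_pow_sub_one (F := F) (p := p) fun hd => hp.out.one_lt.ne'
        (Nat.Coprime.eq_one_of_dvd hh.symm hd))
      (aeval_X_pow_sub_one (F := F) h.1 (m := orderOf h) (by
        rw [← Matrix.SpecialLinearGroup.coe_pow, pow_orderOf_eq_one]
        rfl)) (Units.mk0 _ hPd)⁻¹
    have hQ : (E * P.val).det = 1 := by
      rw [Matrix.det_mul, hE, Units.val_inv_eq_inv_val, Units.val_mk0, inv_mul_cancel₀ hPd]
    let Q : Matrix.SpecialLinearGroup n F := ⟨E * P.val, hQ⟩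
    rw [isConj_iff]
    refine ⟨Q, ?_⟩
    rw [mul_inv_eq_iff_eq_mul]
    apply Subtype.ext
    show E * P.val * g.1 = h.1 * (E * P.val)
    rw [mul_assoc, hP, ← mul_assoc, hEc, mul_assoc]

omit [Finite F] hp [CharP F p] in
/-- Every product of monic irreducibles from a finite set is the characteristic polynomial of a
matrix killed by the product of the set. -/
theorem exists_matrix_charpoly (S : Finset F[X]) (hS : ∀ π ∈ S, Irreducible π ∧ π.Monic)
    (s : Multiset F[X]) (hs : ∀ π ∈ s, π ∈ S) :
    ∃ A : Matrix (Fin s.prod.natDegree) (Fin s.prod.natDegree) F,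
      A.charpoly = s.prod ∧ aeval A (∏ π ∈ S, π) = 0 := by
  classical
  suffices h : ∃ (k : ℕ) (A : Matrix (Fin k) (Fin k) F),
      A.charpoly = s.prod ∧ aeval A (∏ π ∈ S, π) = 0 by
    obtain ⟨k, A, h1, h2⟩ := h
    obtain rfl : k = s.prod.natDegree := by
      rw [← h1, Matrix.charpoly_natDegree_eq_dim, Fintype.card_fin]
    exact ⟨A, h1, h2⟩
  induction s using Multiset.induction_on with
  | empty =>
    exact ⟨0, 0, by simp [Matrix.charpoly_isEmpty], Subsingleton.elim _ _⟩
  | cons π s ih =>
    obtain ⟨k, A, h1, h2⟩ := ih fun q hq => hs q (Multiset.mem_cons_of_mem hq)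
    have hπS := hs π (Multiset.mem_cons_self π s)
    obtain ⟨hπ, hπm⟩ := hS π hπS
    haveI : Fact (Irreducible π) := ⟨hπ⟩
    let pb := AdjoinRoot.powerBasis hπ.ne_zero
    let B := Algebra.leftMulMatrix pb.basis pb.gen
    have hB1 : B.charpoly = π := by
      show (Algebra.leftMulMatrix pb.basis pb.gen).charpoly = π
      rw [charpoly_leftMulMatrix, AdjoinRoot.minpoly_powerBasis_gen_of_monic hπm]
    have hB2 : aeval B (∏ q ∈ S, q) = 0 := by
      rw [aeval_algHom_apply, show aeval pb.gen (∏ q ∈ S, q) = 0 from ?_, map_zero]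
      obtain ⟨c, hc⟩ := Finset.dvd_prod_of_mem (fun q => q) hπS
      rw [hc, map_mul]
      show aeval (AdjoinRoot.root π) π * _ = 0
      rw [AdjoinRoot.aeval_eq, AdjoinRoot.mk_self, zero_mul]
    let φ : (Matrix (Fin pb.dim) (Fin pb.dim) F × Matrix (Fin k) (Fin k) F) →ₐ[F]
        Matrix (Fin pb.dim ⊕ Fin k) (Fin pb.dim ⊕ Fin k) F :=
      { toFun := fun x => Matrix.fromBlocks x.1 0 0 x.2
        map_one' := Matrix.fromBlocks_one
        map_mul' := fun x y => by simp [Matrix.fromBlocks_multiply]
        map_zero' := Matrix.fromBlocks_zero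
        map_add' := fun x y => by simp [Matrix.fromBlocks_add]
        commutes' := fun r => by
          ext i j
          rcases i with i | i <;> rcases j with j | j <;>
            simp [Matrix.algebraMap_matrix_apply] }
    refine ⟨pb.dim + k, Matrix.reindexAlgEquiv F F finSumFinEquiv (φ (B, A)), ?_, ?_⟩
    · rw [Matrix.coe_reindexAlgEquiv, Matrix.charpoly_reindex]
      show (Matrix.fromBlocks B 0 0 A).charpoly = _
      rw [Matrix.charpoly_fromBlocks_zero₁₂, hB1, h1, Multiset.prod_cons]
    · rw [aeval_algHom_apply, aeval_algHom_apply, Polynomial.aeval_prod_apply, hB2, h2,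
        Prod.mk_zero_zero, map_zero, map_zero]

omit [Finite F] in
/-- An element killed by a squarefree polynomial has order prime to the characteristic. -/
theorem coprime_orderOf_of_squarefree {R : Type*} [Ring R] [Algebra F R] [Nontrivial R] (A : R)
    {f : F[X]} (hsq : Squarefree f) (hA : aeval A f = 0) (hord : 0 < orderOf A) :
    (orderOf A).Coprime p := by
  rw [Nat.coprime_comm, hp.out.coprime_iff_not_dvd]
  rintro ⟨m, hm⟩
  have hsq' : Squarefree (minpoly F A) := hsq.squarefree_of_dvd (minpoly.dvd F A hA)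
  have hAm : minpoly F A ∣ (X ^ m - 1 : F[X]) ^ p := by
    apply minpoly.dvd
    rw [sub_pow_char, one_pow, ← pow_mul, map_sub, map_pow, aeval_X, map_one, mul_comm, ← hm,
      pow_orderOf_eq_one, sub_self]
  rw [hsq'.dvd_pow_iff_dvd hp.out.ne_zero] at hAm
  have h1 : A ^ m = 1 := by
    rw [← sub_eq_zero]
    simpa using aeval_eq_zero_of_dvd_aeval_eq_zero hAm (minpoly.aeval F A)
  have hm0 : 0 < m := Nat.pos_of_mul_pos_left (hm ▸ hord)
  have := Nat.le_of_dvd hm0 (orderOf_dvd_of_pow_eq_one h1)
  have h2 := hp.out.two_le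
  rw [hm] at this
  nlinarith

/-- Every monic polynomial with non-zero constant term is the characteristic polynomial of an
element of `GL_n` of order prime to `p`. -/
theorem exists_GL_charpoly {n : ℕ} (hn : 1 ≤ n) (χ : F[X]) (hm : χ.Monic) (hd : χ.natDegree = n)
    (h0 : χ.coeff 0 ≠ 0) :
    ∃ g : GL (Fin n) F, (orderOf g).Coprime p ∧ (g : Matrix (Fin n) (Fin n) F).charpoly = χ := by
  classical
  let s := UniqueFactorizationMonoid.normalizedFactors χ
  have hs : s.prod = χ := by
    rw [UniqueFactorizationMonoid.prod_normalizedFactors_eq hm.ne_zero, hm.normalize_eq_self]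
  have hmem : ∀ π ∈ s.toFinset, Irreducible π ∧ π.Monic := by
    intro π hπ
    rw [Multiset.mem_toFinset] at hπ
    refine ⟨UniqueFactorizationMonoid.irreducible_of_normalized_factor π hπ, ?_⟩
    have := UniqueFactorizationMonoid.normalize_normalized_factor π hπ
    rw [← this]
    exact Polynomial.monic_normalize (UniqueFactorizationMonoid.irreducible_of_normalized_factor π hπ).ne_zero
  obtain ⟨A, hA1, hA2⟩ := exists_matrix_charpoly s.toFinset hmem s fun π hπ => Multiset.mem_toFinset.2 hπ
  clear_value s
  subst hs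
  have hdim : s.prod.natDegree = n := hd
  let A' : Matrix (Fin n) (Fin n) F := Matrix.reindexAlgEquiv F F (finCongr hdim) A
  have h1 : A'.charpoly = s.prod := by
    show (Matrix.reindexAlgEquiv F F (finCongr hdim) A).charpoly = _
    rw [Matrix.coe_reindexAlgEquiv, Matrix.charpoly_reindex, hA1]
  have h2 : aeval A' (∏ π ∈ s.toFinset, π) = 0 := by
    show aeval (Matrix.reindexAlgEquiv F F (finCongr hdim) A) _ = 0
    rw [aeval_algHom_apply, hA2, map_zero]
  have hdet : A'.det ≠ 0 := by
    rw [Matrix.det_eq_sign_charpoly_coeff, h1]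
    simp [h0]
  refine ⟨Matrix.GeneralLinearGroup.mkOfDetNeZero A' hdet, ?_, h1⟩
  have hsq : Squarefree (∏ π ∈ s.toFinset, π) := by
    refine Finset.induction_on' (motive := fun T => Squarefree (∏ π ∈ T, π)) s.toFinset ?_ ?_
    · simp
    · intro a T ha hT haT ih
      rw [Finset.prod_insert haT, squarefree_mul_iff]
      refine ⟨IsRelPrime.prod_right fun b hb => ?_, (hmem a ha).1.squarefree, ih⟩
      refine ((hmem a ha).1.coprime_iff_not_dvd.2 fun h => haT ?_).isRelPrime
      rw [eq_of_monic_of_associated (hmem a ha).2 (hmem b (hT hb)).2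
        ((hmem a ha).1.associated_of_dvd (hmem b (hT hb)).1 h)]
      exact hb
  haveI : NeZero n := ⟨by omega⟩
  rw [← orderOf_units]
  refine coprime_orderOf_of_squarefree (F := F) A' hsq h2 ?_
  have : orderOf (Matrix.GeneralLinearGroup.mkOfDetNeZero A' hdet) = orderOf A' := orderOf_units.symm
  rw [← this]
  exact orderOf_pos _

end CfsgLib.CharpolySS
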